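import Groth.Agent.Ega41Sep.Separable
import Mathlib.LinearAlgebra.Basis.VectorSpace
import Mathlib.RingTheory.RingHom.Smooth

/-!
# A field is separable over an invariant subfield
-/

set_option autoImplicit false
universe u

namespace Groth.QuotSep

open Groth.Ega41Sep

variable {p : ℕ} [hp : Fact p.Prime]

/-- Independence over `p`-th powers is preserved by separable extensions. -/
theorem eq_zero_of_powIndep {L R : Type u} [Field L] [Field R] [Algebra L R] [CharP L p]
    (h : PowIndep p L R) {n : ℕ} (b : Fin n → L)
    (hb : ∀ l : Fin n → L, ∑ i, l i ^ p * b i = 0 → l = 0) (r : Fin n → R)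
    (hr : ∑ i, r i ^ p * algebraMap L R (b i) = 0) : r = 0 := by
  classical
  have : CharP R p := charP_of_injective_algebraMap (algebraMap L R).injective p
  let V := Module.Basis.ofVectorSpace L R
  let S := Finset.univ.biUnion fun i => (V.repr (r i)).support
  have hexp : ∀ i, r i = ∑ e ∈ S, algebraMap L R (V.repr (r i) e) * V e := fun i => by
    conv_lhs => rw [← V.linearCombination_repr (r i), Finsupp.linearCombination_apply]
    rw [Finsupp.sum_of_support_subset _
      (Finset.subset_biUnion_of_mem (fun i => (V.repr (r i)).support) (Finset.mem_univ i)) _ (by simp)]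
    simp [Algebra.smul_def, S]
  have h1 : ∑ e ∈ S, (∑ i, (V.repr (r i) e) ^ p * b i) • (V e ^ p) = 0 := by
    rw [← hr]
    calc _ = ∑ e ∈ S, ∑ i, (algebraMap L R (V.repr (r i) e) * V e) ^ p * algebraMap L R (b i) := by
          refine Finset.sum_congr rfl fun e _ => ?_
          rw [Algebra.smul_def, map_sum, Finset.sum_mul]
          refine Finset.sum_congr rfl fun i _ => ?_
          rw [map_mul, map_pow, mul_pow]
          ring
      _ = ∑ i, ∑ e ∈ S, (algebraMap L R (V.repr (r i) e) * V e) ^ p * algebraMap L R (b i) := Finset.sum_comm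
      _ = _ := by
          refine Finset.sum_congr rfl fun i _ => ?_
          rw [← Finset.sum_mul, ← sum_pow_char, ← hexp]
  funext i
  rw [hexp i, Pi.zero_apply]
  refine Finset.sum_eq_zero fun e he => ?_
  have h2 := linearIndependent_iff'.1 (h (fun e => V e) V.linearIndependent) S _ h1 e he
  have h3 : V.repr (r i) e = 0 := congrFun (hb (fun i => V.repr (r i) e) h2) i
  rw [h3, map_zero, zero_mul]

variable {F L : Type u} [Field F] [Field L] [Algebra F L] [CharP F p]

/-- `p`-independent elements of an invariant subfield stay independent over `L ^ p`. -/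
theorem eq_zero_of_invariant {I : Type*} (R : I → Type u) [∀ i, Field (R i)]
    (α β : ∀ i, L →+* R i) (hF : ∀ i f, α i (algebraMap F L f) = β i (algebraMap F L f))
    (hβ : ∀ i, (β i).FormallySmooth)
    (hinv : ∀ l, (∀ i, α i l = β i l) → l ∈ Set.range (algebraMap F L)) :
    ∀ (n : ℕ) (b : Fin n → F), (∀ c : Fin n → F, ∑ i, c i ^ p * b i = 0 → c = 0) →
      ∀ l : Fin n → L, ∑ i, l i ^ p * algebraMap F L (b i) = 0 → l = 0 := by
  have : CharP L p := charP_of_injective_algebraMap (algebraMap F L).injective p
  intro n
  induction n with
  | zero => intro b _ l _; exact funext fun i => i.elim0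
  | succ n ih =>
    intro b hb l hl
    have htail : ∀ c : Fin n → F, ∑ i, c i ^ p * b i.succ = 0 → c = 0 := fun c hc => by
      have := hb (Fin.cons 0 c) (by simp [Fin.sum_univ_succ, hc, zero_pow hp.out.ne_zero])
      funext i
      simpa using congrFun this i.succ
    have iht := ih (fun i => b i.succ) htail
    by_cases h0 : l 0 = 0
    · have := iht (fun i => l i.succ) (by simpa [Fin.sum_univ_succ, h0, zero_pow hp.out.ne_zero] using hl)
      funext i
      induction i using Fin.cases with
      | zero => exact h0
      | succ i => exact congrFun this i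
    exfalso
    let m : Fin (n + 1) → L := fun i => (l 0)⁻¹ * l i
    have hm : ∑ i, m i ^ p * algebraMap F L (b i) = 0 := by
      simp only [m, mul_pow, _root_.mul_assoc, ← Finset.mul_sum, hl, mul_zero]
    have hm0 : m 0 = 1 := inv_mul_cancel₀ h0
    have hfix : ∀ j, m j ∈ Set.range (algebraMap F L) := fun j => hinv _ fun i => by
      induction j using Fin.cases with
      | zero => rw [hm0, map_one, map_one]
      | succ j =>
        letI := (β i).toAlgebra
        have hsm : Algebra.FormallySmooth L (R i) := hβ i
        have hP : PowIndep p L (R i) :=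
          (isGeometricallyReduced_iff_powIndep p L (R i)).1
            ((formallySmooth_iff_isGeometricallyReduced L (R i)).1 hsm)
        have : CharP (R i) p := charP_of_injective_algebraMap (algebraMap L (R i)).injective p
        have hz := eq_zero_of_powIndep hP (fun t => algebraMap F L (b t.succ)) iht
          (fun t => α i (m t.succ) - β i (m t.succ)) (by
            have e1 := congrArg (α i) hm
            have e2 := congrArg (β i) hm
            simp only [map_zero, map_add, map_sum, map_mul, map_pow, hF, Fin.sum_univ_succ, hm0, map_one,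
              one_pow, _root_.one_mul] at e1 e2
            simp only [RingHom.algebraMap_toAlgebra, sub_pow_char, sub_mul, Finset.sum_sub_distrib]
            linear_combination e1 - e2)
        exact sub_eq_zero.1 (congrFun hz j)
    choose c hc using hfix
    have := hb c ((algebraMap F L).injective (by simpa [hc] using hm))
    apply one_ne_zero (α := L)
    rw [← hm0, ← hc 0, this, Pi.zero_apply, map_zero]

/-- Independence over `p`-th powers gives Mac Lane's criterion. -/
theorem powIndep_of_forall
    (h : ∀ (n : ℕ) (b : Fin n → F), (∀ c : Fin n → F, ∑ i, c i ^ p * b i = 0 → c = 0) →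
      ∀ l : Fin n → L, ∑ i, l i ^ p * algebraMap F L (b i) = 0 → l = 0) : PowIndep p F L := by
  classical
  have : CharP L p := charP_of_injective_algebraMap (algebraMap F L).injective p
  intro ι s hs
  rw [linearIndependent_iff'] at hs ⊢
  intro S g hg i hi
  let Fp : Subfield F := (frobenius F p).fieldRange
  let V := Module.Basis.ofVectorSpace Fp F
  let E := S.biUnion fun j => (V.repr (g j)).support
  have hroot : ∀ a : Fp, ∃ c : F, c ^ p = (a : F) := fun a => by
    obtain ⟨c, hc⟩ := RingHom.mem_fieldRange.1 a.2
    exact ⟨c, by rw [← hc, frobenius_def]⟩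
  choose rt hrt using hroot
  have hexp : ∀ j ∈ S, g j = ∑ e ∈ E, rt (V.repr (g j) e) ^ p * V e := fun j hj => by
    conv_lhs => rw [← V.linearCombination_repr (g j), Finsupp.linearCombination_apply]
    rw [Finsupp.sum_of_support_subset _
      (Finset.subset_biUnion_of_mem (fun j => (V.repr (g j)).support) hj) _ (by simp)]
    refine Finset.sum_congr rfl fun e _ => ?_
    rw [hrt]; rfl
  let N := E.equivFin
  let b : Fin E.card → F := fun t => V ((N.symm t : E) : _)
  have hb : ∀ c : Fin E.card → F, ∑ t, c t ^ p * b t = 0 → c = 0 := fun c hc => by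
    have hi' := Fintype.linearIndependent_iff.1
      (V.linearIndependent.comp _ (Subtype.val_injective.comp N.symm.injective))
      (fun t => ⟨c t ^ p, RingHom.mem_fieldRange.2 ⟨c t, by rw [frobenius_def]⟩⟩)
      (by simpa [Subfield.smul_def, b] using hc)
    exact funext fun t => (pow_eq_zero_iff hp.out.ne_zero).1 (congrArg Subtype.val (hi' t))
  have key : ∀ e ∈ E, ∑ j ∈ S, rt (V.repr (g j) e) • s j = 0 := by
    have := h E.card b hb (fun t => ∑ j ∈ S, rt (V.repr (g j) (N.symm t : E)) • s j) (by
      rw [← hg, ← Equiv.sum_comp N]
      simp only [Equiv.symm_apply_apply, b, sum_pow_char, Finset.sum_mul, smul_pow, Algebra.smul_def]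
      rw [Finset.sum_comm]
      refine Finset.sum_congr rfl fun j hj => ?_
      conv_rhs => rw [hexp j hj, map_sum, Finset.sum_mul, ← Finset.sum_attach]
      refine Finset.sum_congr rfl fun e _ => ?_
      simp only [map_mul, map_pow]
      ring)
    intro e he
    simpa using congrFun this (N ⟨e, he⟩)
  rw [hexp i hi]
  refine Finset.sum_eq_zero fun e he => ?_
  rw [hs S _ (key e he) i hi, zero_pow hp.out.ne_zero, zero_mul]

/-- A field is geometrically reduced over the fixed field of a family of smooth correspondences. -/
theorem isGeometricallyReduced_of_invariant {F L : Type u} [Field F] [Field L] [Algebra F L]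
    {I : Type*} (R : I → Type u) [∀ i, Field (R i)]
    (α β : ∀ i, L →+* R i) (hF : ∀ i f, α i (algebraMap F L f) = β i (algebraMap F L f))
    (hβ : ∀ i, (β i).FormallySmooth)
    (hinv : ∀ l, (∀ i, α i l = β i l) → l ∈ Set.range (algebraMap F L)) :
    Algebra.IsGeometricallyReduced F L := by
  obtain h | ⟨p, hp, hpk⟩ := CharP.exists' F
  · exact isGeometricallyReduced_charZero F L
  · exact (isGeometricallyReduced_iff_powIndep p F L).2
      (powIndep_of_forall (eq_zero_of_invariant R α β hF hβ hinv))

end Groth.QuotSep
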