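import Groth.Agent.QuotSep.Invariant
import Groth.Agent.Agf.SmoothRed
import Groth.Agent.AlgGrp1.SmoothReduced
import Groth.Agent.Calg4.FlatClosureDedekind

/-!
# The generic fibre of a geometric quotient is smooth
-/

set_option autoImplicit false
universe u

open CategoryTheory MonoidalCategory CartesianMonoidalCategory MonObj GrpObj AlgebraicGeometry
open TopologicalSpace Opposite
open scoped TensorProduct

noncomputable section

namespace Groth.QuotSep

section Residue

/-- The map of residue fields at a point with given image. -/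
def rmap {Z X : Scheme.{u}} (f : Z ⟶ X) {w : Z} {x : X} (h : f w = x) :
    X.residueField x ⟶ Z.residueField w :=
  (X.residueFieldCongr h.symm).hom ≫ f.residueFieldMap w

theorem rmap_evaluation {Z X : Scheme.{u}} (f : Z ⟶ X) {w : Z} {x : X} (h : f w = x) (U : X.Opens)
    (hx : x ∈ U) (hw : f w ∈ U) (s : Γ(X, U)) :
    rmap f h (X.evaluation U x hx s) = Z.evaluation (f ⁻¹ᵁ U) w hw (f.app U s) := by
  subst h
  simp only [rmap, Scheme.residueFieldCongr_refl, Iso.refl_hom, Category.id_comp]
  exact Scheme.evaluation_naturality_apply f w hw s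

theorem rmap_comp {Z X Y : Scheme.{u}} (f : Z ⟶ X) (g : X ⟶ Y) {w : Z} {x : X} {y : Y} (h : f w = x)
    (hg : g x = y) (hfg : (f ≫ g) w = y) : rmap (f ≫ g) hfg = rmap g hg ≫ rmap f h := by
  subst h; subst hg
  simp only [rmap, Scheme.residueFieldCongr_refl, Iso.refl_hom, Category.id_comp]
  exact Scheme.residueFieldMap_comp f g w

theorem rmap_congr {Z X : Scheme.{u}} {f g : Z ⟶ X} (e : f = g) {w : Z} {x : X} (h : f w = x) (h' : g w = x) :
    rmap f h = rmap g h' := by
  subst e; rfl

theorem residue_bijective {Z : Scheme.{u}} [IsReduced Z] {w : Z} (hw : ∀ z : Z, z ⤳ w → z = w) :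
    Function.Bijective (Z.residue w).hom := by
  let := (VarietyBC.isField_stalk_of_maximal hw).toField
  exact ⟨RingHom.injective _, IsLocalRing.residue_surjective⟩

theorem formallySmooth_rmap {Z X : Scheme.{u}} (f : Z ⟶ X) [Smooth f] [IsReduced Z] [IsReduced X] {w : Z}
    {x : X} (h : f w = x) (hw : ∀ z : Z, z ⤳ w → z = w) (hx : ∀ z : X, z ⤳ x → z = x) :
    (rmap f h).hom.FormallySmooth := by
  subst h
  simp only [rmap, Scheme.residueFieldCongr_refl, Iso.refl_hom, Category.id_comp]
  have hs : (f.stalkMap w).hom.FormallySmooth :=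
    Scheme.Hom.mem_smoothLocus.1 (f.smoothLocus_eq_top ▸ trivial)
  let eX := RingEquiv.ofBijective (X.residue (f w)).hom (residue_bijective hx)
  let eZ := RingEquiv.ofBijective (Z.residue w).hom (residue_bijective hw)
  have e : (f.residueFieldMap w).hom = (eZ.toRingHom.comp (f.stalkMap w).hom).comp eX.symm.toRingHom := by
    refine RingHom.ext fun a => ?_
    obtain ⟨a, rfl⟩ := eX.surjective a
    simp only [RingHom.comp_apply, RingEquiv.toRingHom_eq_coe, RingHom.coe_coe, eX.symm_apply_apply]
    exact DFunLike.congr_fun (congrArg CommRingCat.Hom.hom (Scheme.residue_residueFieldMap f w)) a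
  rw [e]
  exact RingHom.FormallySmooth.respectsIso.2 _ _ (RingHom.FormallySmooth.respectsIso.1 _ _ hs)

end Residue

variable {K : Type u} [Field K] {G X Y : Over (Spec (CommRingCat.of K))} [GrpObj G]
  (a : AlgGrp.Action G X) {π : X ⟶ Y}

section Separable

variable [Smooth G.hom] [QuasiCompact G.hom] [IsIntegral X.left] [LocallyOfFiniteType X.hom]
  [QuasiCompact X.hom] (hπ : GIT.IsGeomQuot a π)

include hπ in
/-- The function field of the source is geometrically reduced over that of the quotient. -/
theorem isGeometricallyReduced_residueField :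
    letI := (π.left.residueFieldMap (genericPoint X.left)).hom.toAlgebra
    Algebra.IsGeometricallyReduced (Y.left.residueField (π.left (genericPoint X.left)))
      (X.left.residueField (genericPoint X.left)) := by
  letI := (π.left.residueFieldMap (genericPoint X.left)).hom.toAlgebra
  let ξ := genericPoint X.left
  have hξ : ∀ z : X.left, z ⤳ ξ → z = ξ := fun z hz => (hz.antisymm (genericPoint_specializes z)).eq
  have : LocallyOfFiniteType G.hom := inferInstance
  have : IsLocallyNoetherian X.left := LocallyOfFiniteType.isLocallyNoetherian X.hom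
  have : GeometricallyReduced G.hom := AlgGrp1.geometricallyReduced_of_smooth G.hom
  have : IsReduced (G ⊗ X).left := inferInstanceAs (IsReduced (Limits.pullback G.hom X.hom))
  have : Smooth (pr G X) := inferInstanceAs (Smooth (Limits.pullback.snd G.hom X.hom))
  refine isGeometricallyReduced_of_invariant (I := {w : (G ⊗ X).left // IsMax w})
    (fun w => (G ⊗ X).left.residueField w.1)
    (fun w => (rmap a.act.left (act_eq_generic a w.2)).hom) (fun w => (rmap (pr G X) (pr_eq_generic w.2)).hom)
    (fun w c => ?_) (fun w => formallySmooth_rmap (pr G X) _ w.2 hξ) (fun l hl => ?_)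
  · have e1 := rmap_comp a.act.left π.left (act_eq_generic a w.2) (rfl : π.left ξ = _)
      (congrArg π.left (act_eq_generic a w.2))
    have e2 := rmap_comp (pr G X) π.left (pr_eq_generic w.2) (rfl : π.left ξ = _)
      (congrArg π.left (pr_eq_generic w.2))
    have e := congrArg (fun g => g.hom c) ((e1.symm.trans (rmap_congr hπ.inv.left _ _)).trans e2)
    simpa [rmap, RingHom.algebraMap_toAlgebra] using e
  · obtain ⟨g, rfl⟩ := IsLocalRing.residue_surjective l
    obtain ⟨U, hU, s, rfl⟩ := TopCat.Presheaf.exists_germ_eq X.left.presheaf g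
    change ∀ i, _ at hl
    have hs : ∀ (w : (G ⊗ X).left) (h1 : a.act.left w ∈ U) (h2 : pr G X w ∈ U), IsMax w →
        (G ⊗ X).left.evaluation (a.act.left ⁻¹ᵁ U) w h1 (a.act.left.app U s) =
          (G ⊗ X).left.evaluation (pr G X ⁻¹ᵁ U) w h2 ((pr G X).app U s) := fun w h1 h2 hw => by
      rw [← rmap_evaluation a.act.left (act_eq_generic a hw) U hU h1 s,
        ← rmap_evaluation (pr G X) (pr_eq_generic hw) U hU h2 s]
      exact hl ⟨w, hw⟩
    obtain ⟨V, hUV, b, hb⟩ := exists_section a s hπ (fun {T} g x {x'} h => val_invariant a s hs g x h)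
    refine ⟨Y.left.evaluation V (π.left ξ) (hUV hU) b, ?_⟩
    rw [RingHom.algebraMap_toAlgebra]
    refine (Scheme.evaluation_naturality_apply π.left ξ (hUV hU) b).trans ?_
    rw [← hb]
    show (X.left.residue ξ) (X.left.presheaf.germ _ ξ _ _) = _
    exact congrArg (X.left.residue ξ) (TopCat.Presheaf.germ_res_apply _ _ ξ _ _).symm

end Separable

section Reduced

variable [IsIntegral X.left]

/-- Geometric fibres over the generic point are reduced. -/
theorem isReduced_pullback_of_isGeometricallyReduced {Y : Scheme.{u}} [IsIntegral Y] (p : X.left ⟶ Y)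
    (hp : p (genericPoint X.left) = genericPoint Y) (Ω : Type u) [Field Ω]
    [Algebra (Y.residueField (p (genericPoint X.left))) Ω]
    [IsAlgClosure (Y.residueField (p (genericPoint X.left))) Ω]
    (h : letI := (p.residueFieldMap (genericPoint X.left)).hom.toAlgebra
      Algebra.IsGeometricallyReduced (Y.residueField (p (genericPoint X.left)))
        (X.left.residueField (genericPoint X.left))) :
    IsReduced (Limits.pullback p
      (Spec.map (CommRingCat.ofHom (algebraMap (Y.residueField (p (genericPoint X.left))) Ω)) ≫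
        Y.fromSpecResidueField (p (genericPoint X.left)))) := by
  let ξ := genericPoint X.left
  let F := Y.residueField (p ξ)
  let L := X.left.residueField ξ
  letI : Algebra F L := (p.residueFieldMap ξ).hom.toAlgebra
  let j := Spec.map (CommRingCat.ofHom (algebraMap F Ω)) ≫ Y.fromSpecResidueField (p ξ)
  have : Flat (Y.fromSpecResidueField (p ξ)) := by rw [hp]; infer_instance
  have : Flat (Spec.map (CommRingCat.ofHom (algebraMap F Ω))) := by
    rw [HasRingHomProperty.Spec_iff (P := @Flat)]
    exact RingHom.flat_algebraMap_iff.2 inferInstance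
  have : Flat j := inferInstance
  have : Flat (Limits.pullback.fst p j) := MorphismProperty.pullback_fst _ _ this
  let e := Limits.pullbackRightPullbackFstIso p j (X.left.fromSpecResidueField ξ)
  let A := Spec.map (CommRingCat.ofHom (algebraMap F L))
  let B := Spec.map (CommRingCat.ofHom (algebraMap F Ω))
  have hA : X.left.fromSpecResidueField ξ ≫ p = A ≫ Y.fromSpecResidueField (p ξ) :=
    (Scheme.Hom.SpecMap_residueFieldMap_fromSpecResidueField p ξ).symm
  have : IsReduced (Limits.pullback A B) := by
    have : _root_.IsReduced (AlgebraicClosure F ⊗[F] L) := (Algebra.isGeometricallyReduced_field_iff F L).1 h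
    let i : Ω ≃ₐ[F] AlgebraicClosure F := IsAlgClosure.equiv F Ω (AlgebraicClosure F)
    let e' := (Algebra.TensorProduct.comm F L Ω).trans
      (Algebra.TensorProduct.congr i (AlgEquiv.refl : L ≃ₐ[F] L))
    have : _root_.IsReduced (L ⊗[F] Ω) := isReduced_of_injective e' e'.injective
    exact isReduced_of_isOpenImmersion (pullbackSpecIso F L Ω).hom
  have : IsReduced (Limits.pullback (X.left.fromSpecResidueField ξ) (Limits.pullback.fst p j)) := by
    have sq : IsPullback (Limits.pullback.fst A B) (Limits.pullback.snd A B)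
        (X.left.fromSpecResidueField ξ ≫ p) j := by
      rw [hA]
      exact .of_isLimit (Limits.pullbackIsPullbackOfCompMono A B (Y.fromSpecResidueField (p ξ)))
    exact isReduced_of_isOpenImmersion (e ≪≫ sq.isoPullback.symm).hom
  exact IsSchemeTheoreticallyDominant.isReduced
    (Limits.pullback.snd (X.left.fromSpecResidueField ξ) (Limits.pullback.fst p j))

end Reduced

section Homogeneous

variable [LocallyOfFiniteType G.hom] [LocallyOfFiniteType X.hom] (hπ : GIT.IsGeomQuot a π)

include hπ in
/-- Reduced geometric fibres are smooth. -/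
theorem smooth_geometric_fibre {Ω : Type u} [Field Ω] [IsAlgClosed Ω]
    (j : Spec (CommRingCat.of Ω) ⟶ Y.left) [IsReduced (Limits.pullback π.left j)] :
    Smooth (Limits.pullback.snd π.left j) := by
  have : LocallyOfFiniteType π.left := by
    have : LocallyOfFiniteType (π.left ≫ Y.hom) := by rw [Over.w π]; infer_instance
    exact locallyOfFiniteType_of_comp π.left Y.hom
  have : LocallyOfFiniteType (Limits.pullback.snd π.left j) := MorphismProperty.pullback_snd _ _ this
  let f := Limits.pullback.snd π.left j
  let P : Over (Spec (CommRingCat.of K)) := Over.mk (j ≫ Y.hom)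
  let T : Over (Spec (CommRingCat.of K)) := Over.mk (f ≫ j ≫ Y.hom)
  let pX : T ⟶ X := Over.homMk (Limits.pullback.fst π.left j) (by
    show _ ≫ X.hom = f ≫ j ≫ Y.hom
    rw [← Over.w π, Limits.pullback.condition_assoc])
  let pP : T ⟶ P := Over.homMk f rfl
  have hact : ∀ g : P ⟶ G, (lift (pP ≫ g) pX ≫ a.act).left ≫ π.left = f ≫ j := fun g => by
    rw [← Over.comp_left, Category.assoc, hπ.inv, ← Category.assoc, lift_snd, Over.comp_left]
    exact Limits.pullback.condition
  let τ : (P ⟶ G) → (T ⟶ T) := fun g =>
    Over.homMk (Limits.pullback.lift (lift (pP ≫ g) pX ≫ a.act).left f (hact g))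
      (Limits.pullback.lift_snd_assoc _ _ _ _)
  have τX : ∀ g, τ g ≫ pX = lift (pP ≫ g) pX ≫ a.act := fun g =>
    Over.OverMorphism.ext (Limits.pullback.lift_fst _ _ _)
  have τP : ∀ g, τ g ≫ pP = pP := fun g => Over.OverMorphism.ext (Limits.pullback.lift_snd _ _ _)
  have ext' : ∀ {Q : Over (Spec (CommRingCat.of K))} (u v : Q ⟶ T), u ≫ pX = v ≫ pX → u ≫ pP = v ≫ pP →
      u = v := fun u v h1 h2 =>
    Over.OverMorphism.ext (Limits.pullback.hom_ext (congrArg (fun q => q.left) h1) (congrArg (fun q => q.left) h2))
  have hτ : ∀ g h : P ⟶ G, τ g ≫ τ h = τ (h * g) := fun g h => by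
    refine ext' _ _ ?_ ?_
    · rw [Category.assoc, τX, τX, ← Category.assoc, comp_lift, ← Category.assoc, τP, τX,
        ← Groth.Agf.lift_mul_act, ← MonObj.comp_mul]
    · rw [Category.assoc, τP, τP, τP]
  have hτ1 : τ 1 = 𝟙 T := by
    refine ext' _ _ ?_ ?_
    · rw [τX, MonObj.comp_one, Groth.Agf.lift_one_act, Category.id_comp]
    · rw [τP, Category.id_comp]
  apply Groth.Agf.smooth_of_homogeneous f
  intro x y hx hy
  let σ : ∀ z : T.left, IsClosed {z} → (P ⟶ T) := fun z hz =>
    Over.homMk (pointOfClosedPoint f z hz) (pointOfClosedPoint_comp_assoc f z hz _)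
  have σP : ∀ z hz, σ z hz ≫ pP = 𝟙 P := fun z hz => Over.OverMorphism.ext (pointOfClosedPoint_comp f z hz)
  let x' := σ x hx ≫ pX
  let y' := σ y hy ≫ pX
  have hσ : ∀ z hz, (σ z hz ≫ pX).left ≫ π.left = j := fun z hz => by
    show (pointOfClosedPoint f z hz ≫ Limits.pullback.fst π.left j) ≫ π.left = j
    rw [Category.assoc, Limits.pullback.condition]
    exact (pointOfClosedPoint_comp_assoc f z hz j)
  have hxy : y'.left ≫ π.left = x'.left ≫ π.left := (hσ y hy).trans (hσ x hx).symm
  obtain ⟨g, hg⟩ : ∃ g : P ⟶ G, lift g x' ≫ a.act = y' := by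
    let q₀ : Spec (CommRingCat.of Ω) ⟶ Limits.pullback π.left π.left := Limits.pullback.lift y'.left x'.left hxy
    let Ψ := GIT.PsiY a π hπ.inv
    have : Surjective Ψ := ⟨hπ.orbit⟩
    have : LocallyOfFiniteType (pr G X) :=
      inferInstanceAs (LocallyOfFiniteType (Limits.pullback.snd G.hom X.hom))
    have : LocallyOfFiniteType (Ψ ≫ Limits.pullback.snd π.left π.left) := by
      rw [show Ψ ≫ Limits.pullback.snd π.left π.left = pr G X from Limits.pullback.lift_snd _ _ _]
      infer_instance
    have : LocallyOfFiniteType Ψ := locallyOfFiniteType_of_comp Ψ (Limits.pullback.snd π.left π.left)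
    let c := Limits.pullback.snd Ψ q₀
    have : LocallyOfFiniteType c := MorphismProperty.pullback_snd _ _ ‹_›
    have : Surjective c := MorphismProperty.pullback_snd _ _ ‹Surjective Ψ›
    have := LocallyOfFiniteType.jacobsonSpace c
    have hne : (Set.univ : Set ↥(Limits.pullback Ψ q₀ : Scheme.{u})).Nonempty := by
      obtain ⟨w, -⟩ := c.surjective (IsLocalRing.closedPoint Ω)
      exact ⟨w, trivial⟩
    obtain ⟨w, -, hw⟩ := nonempty_inter_closedPoints hne isClosed_univ.isLocallyClosed
    let sl := pointOfClosedPoint c w hw ≫ Limits.pullback.fst Ψ q₀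
    have hs : sl ≫ Ψ = q₀ := by
      rw [Category.assoc, Limits.pullback.condition, ← Category.assoc, pointOfClosedPoint_comp, Category.id_comp]
    have hsa : sl ≫ a.act.left = y'.left := by
      have := congrArg (fun q => q ≫ Limits.pullback.fst π.left π.left) hs
      simpa [Ψ, GIT.PsiY, q₀, Category.assoc, Limits.pullback.lift_fst] using this
    have hsp : sl ≫ pr G X = x'.left := by
      have := congrArg (fun q => q ≫ Limits.pullback.snd π.left π.left) hs
      simpa [Ψ, GIT.PsiY, q₀, Category.assoc, Limits.pullback.lift_snd] using this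
    let s : P ⟶ G ⊗ X := Over.homMk sl (by
      show sl ≫ (G ⊗ X).hom = P.hom
      rw [← Over.w (snd G X), ← Category.assoc, show sl ≫ (snd G X).left = x'.left from hsp]
      exact Over.w x')
    refine ⟨s ≫ fst G X, ?_⟩
    rw [show x' = s ≫ snd G X from Over.OverMorphism.ext hsp.symm, lift_comp_act]
    exact Over.OverMorphism.ext hsa
  let e : T ≅ T := ⟨τ g, τ g⁻¹, by rw [hτ, inv_mul_cancel, hτ1], by rw [hτ, mul_inv_cancel, hτ1]⟩
  refine ⟨(Over.forget _).mapIso e, Limits.pullback.lift_snd _ _ _, ?_⟩
  have h3 : σ x hx ≫ τ g = σ y hy := by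
    refine ext' _ _ ?_ ?_
    · rw [Category.assoc, τX, ← Category.assoc, comp_lift, ← Category.assoc, σP, Category.id_comp]
      exact hg
    · rw [Category.assoc, τP, σP, σP]
  have h4 := congrArg (fun q => q.left (IsLocalRing.closedPoint Ω)) h3
  simp only [Over.comp_left, σ, Over.homMk_left, Scheme.Hom.comp_apply] at h4
  erw [pointOfClosedPoint_apply, pointOfClosedPoint_apply] at h4
  exact h4

end Homogeneous

theorem smooth_genericFibre [Smooth G.hom] [LocallyOfFiniteType G.hom] [QuasiCompact G.hom]
    [IsIntegral X.left] [LocallyOfFiniteType X.hom] [QuasiCompact X.hom]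
    (hπ : GIT.IsGeomQuot a π) [IrreducibleSpace Y.left] :
    Smooth (π.left.fiberToSpecResidueField (genericPoint Y.left)) := by
  have : IsReduced Y.left := ⟨fun U => isReduced_of_injective (π.left.app U).hom (hπ.sections U).1⟩
  have : IsIntegral Y.left := isIntegral_of_irreducibleSpace_of_isReduced Y.left
  have : Surjective π.left := ⟨hπ.surj⟩
  have hξ : π.left (genericPoint X.left) = genericPoint Y.left := by
    have h := (genericPoint_spec X.left).image π.left.continuous
    rw [Set.image_univ, Set.range_eq_univ.2 hπ.surj, closure_univ] at h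
    exact h.eq (genericPoint_spec Y.left)
  rw [← hξ]
  let F := Y.left.residueField (π.left (genericPoint X.left))
  let Ω : Type u := AlgebraicClosure F
  let i := Spec.map (CommRingCat.ofHom (algebraMap F Ω))
  let j := i ≫ Y.left.fromSpecResidueField (π.left (genericPoint X.left))
  have : IsReduced (Limits.pullback π.left j) :=
    isReduced_pullback_of_isGeometricallyReduced π.left hξ Ω (isGeometricallyReduced_residueField a hπ)
  have key := smooth_geometric_fibre a hπ j
  let c := π.left.fiberToSpecResidueField (π.left (genericPoint X.left))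
  have : Smooth (Limits.pullback.snd c i) := by
    show Smooth (Limits.pullback.snd (Limits.pullback.snd π.left _) i)
    rw [← Limits.pullbackLeftPullbackSndIso_hom_snd]
    exact (MorphismProperty.cancel_left_of_respectsIso @Smooth _ _).2 key
  have : Flat i := by
    rw [HasRingHomProperty.Spec_iff (P := @Flat)]
    exact RingHom.flat_algebraMap_iff.2 inferInstance
  have : Surjective i := ⟨fun x => ⟨IsLocalRing.closedPoint Ω, Subsingleton.elim (α := PrimeSpectrum _) _ _⟩⟩
  exact MorphismProperty.of_isPullback_of_descendsAlong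
    (Q := @Surjective ⊓ @Flat ⊓ @QuasiCompact) (IsPullback.of_hasPullback c i).flip
      ⟨⟨inferInstance, inferInstance⟩, inferInstance⟩ ‹Smooth (Limits.pullback.snd c i)›

end Groth.QuotSep

end
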