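import Groth.Agent.QuotSep.Algebra
import Groth.Agent.S18504
import Groth.Agent.S7993
import Groth.Agent.AlgGrp2.TorsorQuot
import Groth.Agent.VarietyBC.GeomReducedGeneric

/-!
# Invariant rational functions of a geometric quotient
-/

set_option autoImplicit false
universe u

open CategoryTheory MonoidalCategory CartesianMonoidalCategory MonObj GrpObj AlgebraicGeometry
open TopologicalSpace Opposite

noncomputable section

namespace Groth.QuotSep

variable {K : Type u} [Field K] {G X Y : Over (Spec (CommRingCat.of K))} [GrpObj G]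

/-- The projection. -/
abbrev pr (G X : Over (Spec (CommRingCat.of K))) : (G ⊗ X).left ⟶ X.left := (snd G X).left

/-- A point without proper generalisation. -/
def IsMax {Z : Scheme.{u}} (w : Z) : Prop := ∀ z : Z, z ⤳ w → z = w

theorem pr_eq_generic [IrreducibleSpace X.left] [Flat G.hom] {w : (G ⊗ X).left} (hw : IsMax w) :
    pr G X w = genericPoint X.left := by
  have : Flat (pr G X) := inferInstanceAs (Flat (Limits.pullback.snd G.hom X.hom))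
  obtain ⟨z, hz, e⟩ := Flat.generalizingMap (pr G X) (genericPoint_specializes (pr G X w))
  rw [hw z hz] at e
  exact e

/-- The shear map of an action. -/
def shear (a : AlgGrp.Action G X) : G ⊗ X ≅ G ⊗ X where
  hom := lift (fst G X) a.act
  inv := lift (fst G X) (lift (fst G X)⁻¹ (snd G X) ≫ a.act)
  hom_inv_id := by
    apply CartesianMonoidalCategory.hom_ext
    · simp
    · rw [Category.assoc, lift_snd, ← Category.assoc, comp_lift, GrpObj.comp_inv, lift_fst, lift_snd]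
      rw [show lift ((fst G X)⁻¹) a.act = lift ((fst G X)⁻¹) (lift (fst G X) (snd G X) ≫ a.act) by simp,
        ← Groth.Agf.lift_mul_act, inv_mul_cancel, Groth.Agf.lift_one_act, Category.id_comp]
  inv_hom_id := by
    apply CartesianMonoidalCategory.hom_ext
    · simp
    · rw [Category.assoc, lift_snd, ← Groth.Agf.lift_mul_act, mul_inv_cancel, Groth.Agf.lift_one_act,
        Category.id_comp]

theorem act_eq_generic [IrreducibleSpace X.left] [Flat G.hom] (a : AlgGrp.Action G X) {w : (G ⊗ X).left}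
    (hw : IsMax w) : a.act.left w = genericPoint X.left := by
  let e := (Over.forget _).mapIso (shear a)
  have h : IsMax (e.hom.base w) := fun z hz => by
    have := hw (e.inv.base z) (by
      have := hz.map e.inv.continuous
      rwa [← Scheme.Hom.comp_apply, e.hom_inv_id] at this)
    rw [← this, ← Scheme.Hom.comp_apply, e.inv_hom_id]
    rfl
  have h2 := pr_eq_generic (G := G) (X := X) h
  have h3 : (shear a).hom ≫ snd G X = a.act := lift_snd _ _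
  rw [← h3, Over.comp_left]
  exact h2

/-- Values of a section at a point factoring through its domain. -/
abbrev val {T Z : Scheme.{u}} {U : Z.Opens} (s : Γ(Z, U)) (x : T ⟶ Z) (hx : ⊤ ≤ x ⁻¹ᵁ U) : Γ(T, ⊤) :=
  x.appLE U ⊤ hx s

theorem val_comp {T T' Z : Scheme.{u}} {U : Z.Opens} (s : Γ(Z, U)) (t : T' ⟶ T) (x : T ⟶ Z)
    (hx : ⊤ ≤ x ⁻¹ᵁ U) (htx : ⊤ ≤ (t ≫ x) ⁻¹ᵁ U) : val s (t ≫ x) htx = t.appTop (val s x hx) := by
  have h := Scheme.Hom.appLE_comp_appLE t x U ⊤ ⊤ hx (le_of_eq t.preimage_top.symm)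
  rw [val, val, ← h, CommRingCat.comp_apply, Scheme.Hom.appTop, Scheme.Hom.app_eq_appLE]
  rfl

theorem val_congr {T Z : Scheme.{u}} {U : Z.Opens} (s : Γ(Z, U)) {x y : T ⟶ Z} (h : x = y)
    (hx : ⊤ ≤ x ⁻¹ᵁ U) (hy : ⊤ ≤ y ⁻¹ᵁ U) : val s x hx = val s y hy := by
  subst h; rfl

theorem map_homOfLE_injective {Z : Scheme.{u}} {V W : Z.Opens} (h1 : V ≤ W) (h2 : W ≤ V) :
    Function.Injective (Z.presheaf.map (homOfLE h1).op) := fun a b e => by
  have e' := congrArg (Z.presheaf.map (homOfLE h2).op) e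
  rwa [← CommRingCat.comp_apply, ← CommRingCat.comp_apply, ← Functor.map_comp,
    show (homOfLE h1).op ≫ (homOfLE h2).op = 𝟙 _ from Subsingleton.elim _ _, CategoryTheory.Functor.map_id] at e'

theorem top_le_preimage_of_range {T Z : Scheme.{u}} (x : T ⟶ Z) (U : Z.Opens) (h : ∀ t, x t ∈ U) :
    ⊤ ≤ x ⁻¹ᵁ U := fun t _ => h t

variable (a : AlgGrp.Action G X) {π : X ⟶ Y} (hπ : GIT.IsGeomQuot a π)

section

variable {U : X.left.Opens} (s : Γ(X.left, U))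
  (hs : ∀ (w : (G ⊗ X).left) (h1 : a.act.left w ∈ U) (h2 : pr G X w ∈ U), IsMax w →
    (G ⊗ X).left.evaluation (a.act.left ⁻¹ᵁ U) w h1 (a.act.left.app U s) =
      (G ⊗ X).left.evaluation (pr G X ⁻¹ᵁ U) w h2 ((pr G X).app U s))
  [IsReduced (G ⊗ X).left]

include hs in
/-- Invariance at all points. -/
theorem val_invariant {T : Over (Spec (CommRingCat.of K))} (g : T ⟶ G) (x : T ⟶ X) {x' : T ⟶ X}
    (hx' : lift g x ≫ a.act = x') (h1 : ⊤ ≤ x'.left ⁻¹ᵁ U) (h2 : ⊤ ≤ x.left ⁻¹ᵁ U) :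
    val s x'.left h1 = val s x.left h2 := by
  let W : (G ⊗ X).left.Opens := a.act.left ⁻¹ᵁ U ⊓ pr G X ⁻¹ᵁ U
  let δ : Γ((G ⊗ X).left, W) := a.act.left.appLE U W inf_le_left s - (pr G X).appLE U W inf_le_right s
  have hδ : δ = 0 := by
    refine AlgebraicGeometry.eq_zero_of_basicOpen_eq_bot δ ?_
    by_contra hne
    obtain ⟨wm, hwm, hmax⟩ := VarietyBC.exists_maximal_mem
      ((Opens.ne_bot_iff_nonempty ((G ⊗ X).left.basicOpen δ)).1 hne)
    have hwmW : wm ∈ W := (G ⊗ X).left.basicOpen_le δ hwm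
    refine ((Scheme.evaluation_ne_zero_iff_mem_basicOpen _ wm hwmW δ).2 hwm) ?_
    rw [map_sub, sub_eq_zero]
    have e := hs wm hwmW.1 hwmW.2 hmax
    rw [← Scheme.germ_residue, ← Scheme.germ_residue, CommRingCat.comp_apply, CommRingCat.comp_apply] at e
    rw [← Scheme.germ_residue, CommRingCat.comp_apply, CommRingCat.comp_apply, Scheme.Hom.appLE,
      Scheme.Hom.appLE, CommRingCat.comp_apply, CommRingCat.comp_apply,
      TopCat.Presheaf.germ_res_apply, TopCat.Presheaf.germ_res_apply]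
    exact e
  let q := lift g x
  have hq1 : q.left ≫ a.act.left = x'.left := by rw [← Over.comp_left, hx']
  have hq2 : q.left ≫ pr G X = x.left := by rw [pr, ← Over.comp_left, lift_snd]
  have hqW : ⊤ ≤ q.left ⁻¹ᵁ W := fun t _ => ⟨by
      show a.act.left (q.left t) ∈ U
      rw [← Scheme.Hom.comp_apply, hq1]; exact h1 trivial, by
      show pr G X (q.left t) ∈ U
      rw [← Scheme.Hom.comp_apply, hq2]; exact h2 trivial⟩
  rw [val_congr s hq1.symm h1 (by rw [hq1]; exact h1), val_congr s hq2.symm h2 (by rw [hq2]; exact h2), val, val,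
    ← Scheme.Hom.appLE_comp_appLE q.left a.act.left U W ⊤ inf_le_left hqW,
    ← Scheme.Hom.appLE_comp_appLE q.left (pr G X) U W ⊤ inf_le_right hqW,
    CommRingCat.comp_apply, CommRingCat.comp_apply]
  exact congrArg (q.left.appLE W ⊤ hqW) (sub_eq_zero.1 hδ)

end

section Descent

variable {U : X.left.Opens} (s : Γ(X.left, U))

omit [Field K] in
theorem _root_.Groth.QuotSep.top_le_of_factor {T Z : Scheme.{u}} {W : Z.Opens} {f : T ⟶ Z} (y : T ⟶ W)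
    (h : y ≫ W.ι = f) : ⊤ ≤ f ⁻¹ᵁ W := fun w _ => by
  show f w ∈ W
  rw [← h, Scheme.Hom.comp_apply]
  exact (y w).2

theorem lift_comp_act {T : Over (Spec (CommRingCat.of K))} (z : T ⟶ G ⊗ X) :
    lift (z ≫ fst G X) (z ≫ snd G X) ≫ a.act = z ≫ a.act := by
  rw [← comp_lift, lift_fst_snd, Category.comp_id]

variable {X₀ : X.left.Opens}
  (q : (a.act.left ⁻¹ᵁ U : (G ⊗ X).left.Opens).toScheme ⟶ X₀)
  (hqι : q ≫ X₀.ι = (a.act.left ⁻¹ᵁ U).ι ≫ pr G X)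
  (hinv : ∀ {T : Over (Spec (CommRingCat.of K))} (g : T ⟶ G) (x : T ⟶ X) {x' : T ⟶ X}
      (_ : lift g x ≫ a.act = x') (h1 : ⊤ ≤ x'.left ⁻¹ᵁ U) (h2 : ⊤ ≤ x.left ⁻¹ᵁ U),
      val s x'.left h1 = val s x.left h2)
  (hOa : ⊤ ≤ ((a.act.left ⁻¹ᵁ U).ι ≫ a.act.left) ⁻¹ᵁ U)

include hqι hinv in
theorem cocycle {P : Scheme.{u}} (p₁ p₂ : P ⟶ (a.act.left ⁻¹ᵁ U : (G ⊗ X).left.Opens).toScheme)
    (hp : p₁ ≫ q = p₂ ≫ q) :
    p₁.appTop (val s ((a.act.left ⁻¹ᵁ U).ι ≫ a.act.left) hOa) =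
      p₂.appTop (val s ((a.act.left ⁻¹ᵁ U).ι ≫ a.act.left) hOa) := by
  let TP : Over (Spec (CommRingCat.of K)) := Over.mk ((p₁ ≫ (a.act.left ⁻¹ᵁ U).ι) ≫ (G ⊗ X).hom)
  have hw : (p₂ ≫ (a.act.left ⁻¹ᵁ U).ι) ≫ pr G X = (p₁ ≫ (a.act.left ⁻¹ᵁ U).ι) ≫ pr G X := by
    rw [Category.assoc, Category.assoc, ← hqι, ← Category.assoc, ← Category.assoc, hp]
  let z₁ : TP ⟶ G ⊗ X := Over.homMk (p₁ ≫ (a.act.left ⁻¹ᵁ U).ι) rfl
  let z₂ : TP ⟶ G ⊗ X := Over.homMk (p₂ ≫ (a.act.left ⁻¹ᵁ U).ι) (by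
    show _ ≫ (G ⊗ X).hom = _ ≫ (G ⊗ X).hom
    rw [← Over.w (snd G X), ← Category.assoc, hw, Category.assoc])
  have hx : z₁ ≫ snd G X = z₂ ≫ snd G X := Over.OverMorphism.ext hw.symm
  have e₁ : (z₁ ≫ a.act).left = p₁ ≫ (a.act.left ⁻¹ᵁ U).ι ≫ a.act.left := Category.assoc _ _ _
  have e₂ : (z₂ ≫ a.act).left = p₂ ≫ (a.act.left ⁻¹ᵁ U).ι ≫ a.act.left := Category.assoc _ _ _
  have hz₁ : ⊤ ≤ (p₁ ≫ (a.act.left ⁻¹ᵁ U).ι ≫ a.act.left) ⁻¹ᵁ U := fun w _ => hOa (x := p₁ w) trivial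
  have hz₂ : ⊤ ≤ (p₂ ≫ (a.act.left ⁻¹ᵁ U).ι ≫ a.act.left) ⁻¹ᵁ U := fun w _ => hOa (x := p₂ w) trivial
  have key := hinv ((z₂ ≫ fst G X) * (z₁ ≫ fst G X)⁻¹) (z₁ ≫ a.act) (x' := z₂ ≫ a.act)
    (by rw [← lift_comp_act a z₁, ← Groth.Agf.lift_mul_act, inv_mul_cancel_right, hx, lift_comp_act])
    (by rw [e₂]; exact hz₂) (by rw [e₁]; exact hz₁)
  rw [← val_comp s p₁ _ hOa hz₁, ← val_comp s p₂ _ hOa hz₂, val_congr s e₁.symm hz₁ (by rw [e₁]; exact hz₁),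
    val_congr s e₂.symm hz₂ (by rw [e₂]; exact hz₂)]
  exact key.symm

variable (t₀ : Γ(X₀, ⊤))

/-- The section on `X₀` with given restriction. -/
abbrev sec : Γ(X.left, X₀) := X₀.topIso.hom t₀

omit [GrpObj G] in
theorem val_sec {Z : Scheme.{u}} (y : Z ⟶ X₀) (hy : ⊤ ≤ (y ≫ X₀.ι) ⁻¹ᵁ X₀) :
    val (sec t₀) (y ≫ X₀.ι) hy = y.appTop t₀ := by
  rw [val_comp _ y X₀.ι (fun z _ => z.2) hy]
  congr 1
  have : X₀.ι.appLE X₀ ⊤ (fun z _ => z.2) = X₀.topIso.inv := by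
    rw [Scheme.Opens.ι_appLE, Scheme.Opens.topIso_inv]
    rfl
  rw [val, this, sec, ← CommRingCat.comp_apply, Iso.hom_inv_id]
  rfl

variable (ht₀ : q.appTop t₀ = val s ((a.act.left ⁻¹ᵁ U).ι ≫ a.act.left) hOa)

include hqι ht₀ in
theorem sec_eq {T : Over (Spec (CommRingCat.of K))} (g : T ⟶ G) (x : T ⟶ X) {x' : T ⟶ X}
    (hx' : lift g x ≫ a.act = x') (h1 : ⊤ ≤ x'.left ⁻¹ᵁ U) (h2 : ⊤ ≤ x.left ⁻¹ᵁ X₀) :
    val (sec t₀) x.left h2 = val s x'.left h1 := by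
  have hl : (lift g x).left ≫ a.act.left = x'.left := by rw [← Over.comp_left, hx']
  have hr : Set.range (lift g x).left ⊆ Set.range (a.act.left ⁻¹ᵁ U).ι := by
    rw [Scheme.Opens.range_ι]
    rintro _ ⟨w, rfl⟩
    show a.act.left ((lift g x).left w) ∈ U
    rw [← Scheme.Hom.comp_apply, hl]
    exact h1 trivial
  obtain ⟨y, hy⟩ : ∃ y, y ≫ (a.act.left ⁻¹ᵁ U).ι = (lift g x).left :=
    ⟨_, IsOpenImmersion.lift_fac _ _ hr⟩
  have hx : (y ≫ q) ≫ X₀.ι = x.left := by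
    rw [Category.assoc, hqι, ← Category.assoc, hy, pr, ← Over.comp_left, lift_snd]
  have hy' : y ≫ (a.act.left ⁻¹ᵁ U).ι ≫ a.act.left = x'.left := by rw [← Category.assoc, hy, hl]
  rw [val_congr _ hx.symm h2 (by rw [hx]; exact h2), val_sec, Scheme.Hom.comp_appTop, CommRingCat.comp_apply, ht₀,
    ← val_comp s y _ hOa (by rw [hy']; exact h1)]
  exact val_congr s hy' _ _

include hqι ht₀ in
theorem sec_invariant [Flat q] [Surjective q] [QuasiCompact q] {T : Over (Spec (CommRingCat.of K))}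
    (g : T ⟶ G) (x : T ⟶ X) {x' : T ⟶ X}
    (hx' : lift g x ≫ a.act = x') (h1 : ⊤ ≤ x'.left ⁻¹ᵁ X₀) (h2 : ⊤ ≤ x.left ⁻¹ᵁ X₀) :
    val (sec t₀) x'.left h1 = val (sec t₀) x.left h2 := by
  have hr : Set.range x.left ⊆ Set.range X₀.ι := by
    rw [Scheme.Opens.range_ι]
    rintro _ ⟨w, rfl⟩
    exact h2 trivial
  obtain ⟨xl, hxl⟩ : ∃ xl, xl ≫ X₀.ι = x.left := ⟨_, IsOpenImmersion.lift_fac _ _ hr⟩
  let p := Limits.pullback.fst xl q
  let T' : Over (Spec (CommRingCat.of K)) := Over.mk (p ≫ T.hom)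
  let pT : T' ⟶ T := Over.homMk p rfl
  have hz : (Limits.pullback.snd xl q ≫ (a.act.left ⁻¹ᵁ U).ι) ≫ pr G X = p ≫ x.left := by
    rw [Category.assoc, ← hqι, ← Limits.pullback.condition_assoc, hxl]
  let z : T' ⟶ G ⊗ X := Over.homMk (Limits.pullback.snd xl q ≫ (a.act.left ⁻¹ᵁ U).ι) (by
    show _ ≫ (G ⊗ X).hom = p ≫ T.hom
    rw [← Over.w (snd G X), ← Category.assoc, hz, Category.assoc, Over.w])
  have hzx : z ≫ snd G X = pT ≫ x := Over.OverMorphism.ext hz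
  have e : (z ≫ a.act).left = Limits.pullback.snd xl q ≫ (a.act.left ⁻¹ᵁ U).ι ≫ a.act.left := Category.assoc _ _ _
  have hU' : ⊤ ≤ (z ≫ a.act).left ⁻¹ᵁ U := by
    rw [e]; exact fun w _ => hOa (x := Limits.pullback.snd xl q w) trivial
  have hx'' : ⊤ ≤ (pT ≫ x').left ⁻¹ᵁ X₀ := fun w _ => h1 (x := p w) trivial
  have hx2 : ⊤ ≤ (pT ≫ x).left ⁻¹ᵁ X₀ := fun w _ => h2 (x := p w) trivial
  have e2 : lift (z ≫ fst G X) (pT ≫ x) ≫ a.act = z ≫ a.act := by rw [← hzx, lift_comp_act]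
  have e1 : lift ((z ≫ fst G X) * (pT ≫ g)⁻¹) (pT ≫ x') ≫ a.act = z ≫ a.act := by
    rw [← hx', ← Category.assoc, comp_lift, ← Groth.Agf.lift_mul_act, inv_mul_cancel_right, e2]
  have : Surjective p := MorphismProperty.pullback_fst _ _ ‹Surjective q›
  have : Flat p := MorphismProperty.pullback_fst _ _ ‹Flat q›
  have : QuasiCompact p := MorphismProperty.pullback_fst _ _ ‹QuasiCompact q›
  apply Groth.AlgGrp2.ConstFun.appTop_injective_of_epi p
  rw [← val_comp _ p x'.left h1 hx'', ← val_comp _ p x.left h2 hx2]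
  exact (sec_eq a s q hqι hOa t₀ ht₀ _ (pT ≫ x') e1 hU' hx'').trans
    (sec_eq a s q hqι hOa t₀ ht₀ _ (pT ≫ x) e2 hU' hx2).symm

/-- An invariant rational function is a function on the quotient. -/
theorem exists_section [Smooth G.hom] [QuasiCompact G.hom] [LocallyOfFiniteType X.hom] [QuasiCompact X.hom]
    (hπ : GIT.IsGeomQuot a π)
    (hinv : ∀ {T : Over (Spec (CommRingCat.of K))} (g : T ⟶ G) (x : T ⟶ X) {x' : T ⟶ X}
      (_ : lift g x ≫ a.act = x') (h1 : ⊤ ≤ x'.left ⁻¹ᵁ U) (h2 : ⊤ ≤ x.left ⁻¹ᵁ U),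
      val s x'.left h1 = val s x.left h2) :
    ∃ (V₀ : Y.left.Opens) (h : U ≤ π.left ⁻¹ᵁ V₀) (b : Γ(Y.left, V₀)),
      X.left.presheaf.map (homOfLE h).op (π.left.app V₀ b) = s := by
  have : UniversallyOpen G.hom := DescentBase.universallyOpen_of_field K G.hom
  have hopen : IsOpenMap π.left.base :=
    Agent.S18504.isOpenMap_of_orbit a π hπ (𝟙 X.left) π.left (𝟙 Y.left) (IsPullback.of_vert_isIso ⟨by simp⟩)
  let V₀ : Y.left.Opens := ⟨π.left.base '' U, hopen _ U.isOpen⟩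
  let X₀ : X.left.Opens := π.left ⁻¹ᵁ V₀
  have hUX : U ≤ X₀ := fun x hx => ⟨x, hx, rfl⟩
  let O : (G ⊗ X).left.Opens := a.act.left ⁻¹ᵁ U
  have hO : O ≤ pr G X ⁻¹ᵁ X₀ := fun w hw => ⟨a.act.left w, hw, by
    rw [← Scheme.Hom.comp_apply, hπ.inv.left, Scheme.Hom.comp_apply]⟩
  obtain ⟨q, hq⟩ : ∃ q, q = (pr G X).resLE X₀ O hO := ⟨_, rfl⟩
  have hqι : q ≫ X₀.ι = O.ι ≫ pr G X := hq ▸ Scheme.Hom.resLE_comp_ι _ _
  have : Smooth (pr G X) := inferInstanceAs (Smooth (Limits.pullback.snd G.hom X.hom))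
  have : LocallyOfFiniteType (G ⊗ X).hom := by
    rw [← Over.w (snd G X)]
    infer_instance
  have : QuasiCompact (G ⊗ X).hom := by
    rw [← Over.w (snd G X)]
    have : QuasiCompact (pr G X) := inferInstanceAs (QuasiCompact (Limits.pullback.snd G.hom X.hom))
    infer_instance
  have : IsLocallyNoetherian (G ⊗ X).left := LocallyOfFiniteType.isLocallyNoetherian (G ⊗ X).hom
  have : CompactSpace (G ⊗ X).left := (quasiCompact_iff_compactSpace (G ⊗ X).hom).mp inferInstance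
  have : IsNoetherian (G ⊗ X).left := ⟨⟩
  have : NoetherianSpace (O : Scheme.{u}) := O.ι.isEmbedding.isInducing.noetherianSpace
  have : QuasiCompact q := inferInstance
  have : Flat q := hq ▸ inferInstanceAs (Flat ((pr G X).resLE X₀ O hO))
  have : Surjective q := ⟨fun x => by
    obtain ⟨x', hx', e⟩ := x.2
    obtain ⟨w, hw1, hw2⟩ := Scheme.Pullback.exists_preimage_pullback (f := π.left) (g := π.left) x' x.1 e
    obtain ⟨v, hv⟩ := hπ.orbit w
    have h1 : a.act.left v = x' := by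
      rw [← hw1, ← hv, ← Scheme.Hom.comp_apply, GIT.PsiY, Limits.pullback.lift_fst]
    have h2 : pr G X v = x.1 := by
      rw [← hw2, ← hv, ← Scheme.Hom.comp_apply, GIT.PsiY, Limits.pullback.lift_snd]
    refine ⟨⟨v, show a.act.left v ∈ U by rw [h1]; exact hx'⟩, Subtype.ext ?_⟩
    show X₀.ι (q ⟨v, _⟩) = x.1
    rw [← Scheme.Hom.comp_apply, hqι, Scheme.Hom.comp_apply]
    exact h2⟩
  have hOa : ⊤ ≤ (O.ι ≫ a.act.left) ⁻¹ᵁ U := fun w _ => w.2
  obtain ⟨t₀, ht₀⟩ := AlgGrp2.exists_app_eq q (val s (O.ι ≫ a.act.left) hOa)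
    (cocycle a s q hqι (@hinv) hOa _ _ Limits.pullback.condition)
  let t : Γ(X.left, X₀) := sec t₀
  have full := fun {T : Over (Spec (CommRingCat.of K))} (g : T ⟶ G) (x : T ⟶ X) {x' : T ⟶ X}
      (hx' : lift g x ≫ a.act = x') => sec_invariant a s q hqι hOa t₀ ht₀ g x hx'
  have key := fun {T : Over (Spec (CommRingCat.of K))} (g : T ⟶ G) (x : T ⟶ X) {x' : T ⟶ X}
      (hx' : lift g x ≫ a.act = x') => sec_eq a s q hqι hOa t₀ ht₀ g x hx'
  have hInv : GIT.IsInvSection a π V₀ t := by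
    let W₀ : (G ⊗ X).left.Opens := a.act.left ⁻¹ᵁ X₀ ⊓ (snd G X).left ⁻¹ᵁ X₀
    let T : Over (Spec (CommRingCat.of K)) := Over.mk (W₀.ι ≫ (G ⊗ X).hom)
    let z : T ⟶ G ⊗ X := Over.homMk W₀.ι rfl
    have h := full (z ≫ fst G X) (z ≫ snd G X) (x' := z ≫ a.act) (lift_comp_act a z)
      (fun w _ => w.2.1) (fun w _ => w.2.2)
    have e : ∀ (f : (G ⊗ X).left ⟶ X.left) (hf : W₀ ≤ f ⁻¹ᵁ X₀) (hf' : ⊤ ≤ (W₀.ι ≫ f) ⁻¹ᵁ X₀),
        W₀.ι.appLE W₀ ⊤ (fun w _ => w.2) (f.appLE X₀ W₀ hf t) = val t (W₀.ι ≫ f) hf' := fun f hf hf' => by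
      rw [val, ← Scheme.Hom.appLE_comp_appLE W₀.ι f X₀ W₀ ⊤ hf (fun w _ => w.2), CommRingCat.comp_apply]
    show a.act.left.appLE X₀ W₀ _ t = (snd G X).left.appLE X₀ W₀ _ t
    have := (e a.act.left inf_le_left (fun w _ => w.2.1)).trans (h.trans
      (e (snd G X).left inf_le_right (fun w _ => w.2.2)).symm)
    rw [Scheme.Opens.ι_appLE] at this
    exact map_homOfLE_injective _ (by rw [Scheme.Opens.ι_image_top]) this
  obtain ⟨b, hb⟩ : t ∈ Set.range (π.left.app V₀) := by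
    rw [(hπ.sections V₀).2]; exact hInv
  refine ⟨V₀, hUX, b, ?_⟩
  rw [hb, show s = X.left.presheaf.map (homOfLE le_rfl).op s by simp]
  let T : Over (Spec (CommRingCat.of K)) := Over.mk (U.ι ≫ X.hom)
  have h := key (1 : T ⟶ G) (Over.homMk U.ι rfl) (Groth.Agf.lift_one_act a _) (fun w _ => w.2) (fun w _ => hUX w.2)
  have h' : ∀ (A : X.left.Opens) (hA : U ≤ A) (f : Γ(X.left, A)) (hA' : ⊤ ≤ U.ι ⁻¹ᵁ A),
      U.ι.appLE U ⊤ (fun w _ => w.2) (X.left.presheaf.map (homOfLE hA).op f) = val f U.ι hA' := fun A hA f hA' => by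
    rw [val, ← CommRingCat.comp_apply, Scheme.Hom.map_appLE]
  have h2 := (h' X₀ hUX t (fun w _ => hUX w.2)).trans (h.trans (h' U le_rfl s (fun w _ => w.2)).symm)
  rw [Scheme.Opens.ι_appLE] at h2
  exact map_homOfLE_injective _ (by rw [Scheme.Opens.ι_image_top]) h2

end Descent

end Groth.QuotSep

end
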